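/-
Sub-presentations of the presented Fischer group Fi₂₂ on the generator subsets
`b..i` (O₇(3)), `b..h` (Sp₆(2) = W(E₇)/centre), `b,c,d,e,f,h` (W(E₆)), `c,d,e,f,h` (W(D₅)) and
`c,d,e,f` (S₅), used to bound the order from above.
-/
import Cfsg.Prelude.Def_Spor_Fi22

set_option autoImplicit false

namespace Cfsg.Agent.Lib.Helper28.Fi22Sub

namespace P8

/-- The generators b, c, d, e, f, g, h, i. -/
inductive Gen
  | b
  | c
  | d
  | e
  | f
  | g
  | h
  | i
  deriving DecidableEq

/-- the generator b as a word -/ abbrev b : FreeGroup Gen := FreeGroup.of Gen.b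
/-- the generator c as a word -/ abbrev c : FreeGroup Gen := FreeGroup.of Gen.c
/-- the generator d as a word -/ abbrev d : FreeGroup Gen := FreeGroup.of Gen.d
/-- the generator e as a word -/ abbrev e : FreeGroup Gen := FreeGroup.of Gen.e
/-- the generator f as a word -/ abbrev f : FreeGroup Gen := FreeGroup.of Gen.f
/-- the generator g as a word -/ abbrev g : FreeGroup Gen := FreeGroup.of Gen.g
/-- the generator h as a word -/ abbrev h : FreeGroup Gen := FreeGroup.of Gen.h
/-- the generator i as a word -/ abbrev i : FreeGroup Gen := FreeGroup.of Gen.i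

/-- The Coxeter graph restricted to these generators. -/
def edges : List (Gen × ℕ × Gen) :=
  [(.b, 3, .c), (.c, 3, .d), (.d, 3, .e), (.d, 3, .h), (.e, 3, .f), (.f, 3, .g), (.h, 3, .i)]

/-- The further relators that only involve these generators. -/
def extra : List (FreeGroup Gen) := [(d * c * b * d * e * f * d * h * i) ^ 10,
  (b * c * d * e * f * g * h) ^ 9]

/-- the inclusion of the generators -/
def incl : Gen → Cfsg.Spor.Fi22.Gen
  | .b => .b
  | .c => .c
  | .d => .d
  | .e => .e
  | .f => .f
  | .g => .g
  | .h => .h
  | .i => .i

end P8

namespace P7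

/-- The generators b, c, d, e, f, g, h. -/
inductive Gen
  | b
  | c
  | d
  | e
  | f
  | g
  | h
  deriving DecidableEq

/-- the generator b as a word -/ abbrev b : FreeGroup Gen := FreeGroup.of Gen.b
/-- the generator c as a word -/ abbrev c : FreeGroup Gen := FreeGroup.of Gen.c
/-- the generator d as a word -/ abbrev d : FreeGroup Gen := FreeGroup.of Gen.d
/-- the generator e as a word -/ abbrev e : FreeGroup Gen := FreeGroup.of Gen.e
/-- the generator f as a word -/ abbrev f : FreeGroup Gen := FreeGroup.of Gen.f
/-- the generator g as a word -/ abbrev g : FreeGroup Gen := FreeGroup.of Gen.g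
/-- the generator h as a word -/ abbrev h : FreeGroup Gen := FreeGroup.of Gen.h

/-- The Coxeter graph restricted to these generators. -/
def edges : List (Gen × ℕ × Gen) :=
  [(.b, 3, .c), (.c, 3, .d), (.d, 3, .e), (.d, 3, .h), (.e, 3, .f), (.f, 3, .g)]

/-- The further relators that only involve these generators. -/
def extra : List (FreeGroup Gen) := [(b * c * d * e * f * g * h) ^ 9]

/-- the inclusion of the generators -/
def incl : Gen → P8.Gen
  | .b => .b
  | .c => .c
  | .d => .d
  | .e => .e
  | .f => .f
  | .g => .g
  | .h => .h

end P7

namespace P6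

/-- The generators b, c, d, e, f, h. -/
inductive Gen
  | b
  | c
  | d
  | e
  | f
  | h
  deriving DecidableEq

/-- the generator b as a word -/ abbrev b : FreeGroup Gen := FreeGroup.of Gen.b
/-- the generator c as a word -/ abbrev c : FreeGroup Gen := FreeGroup.of Gen.c
/-- the generator d as a word -/ abbrev d : FreeGroup Gen := FreeGroup.of Gen.d
/-- the generator e as a word -/ abbrev e : FreeGroup Gen := FreeGroup.of Gen.e
/-- the generator f as a word -/ abbrev f : FreeGroup Gen := FreeGroup.of Gen.f
/-- the generator h as a word -/ abbrev h : FreeGroup Gen := FreeGroup.of Gen.h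

/-- The Coxeter graph restricted to these generators. -/
def edges : List (Gen × ℕ × Gen) :=
  [(.b, 3, .c), (.c, 3, .d), (.d, 3, .e), (.d, 3, .h), (.e, 3, .f)]

/-- The further relators that only involve these generators. -/
def extra : List (FreeGroup Gen) := []

/-- the inclusion of the generators -/
def incl : Gen → P7.Gen
  | .b => .b
  | .c => .c
  | .d => .d
  | .e => .e
  | .f => .f
  | .h => .h

end P6

namespace P5

/-- The generators c, d, e, f, h. -/
inductive Gen
  | c
  | d
  | e
  | f
  | h
  deriving DecidableEq

/-- the generator c as a word -/ abbrev c : FreeGroup Gen := FreeGroup.of Gen.c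
/-- the generator d as a word -/ abbrev d : FreeGroup Gen := FreeGroup.of Gen.d
/-- the generator e as a word -/ abbrev e : FreeGroup Gen := FreeGroup.of Gen.e
/-- the generator f as a word -/ abbrev f : FreeGroup Gen := FreeGroup.of Gen.f
/-- the generator h as a word -/ abbrev h : FreeGroup Gen := FreeGroup.of Gen.h

/-- The Coxeter graph restricted to these generators. -/
def edges : List (Gen × ℕ × Gen) :=
  [(.c, 3, .d), (.d, 3, .e), (.d, 3, .h), (.e, 3, .f)]

/-- The further relators that only involve these generators. -/
def extra : List (FreeGroup Gen) := []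

/-- the inclusion of the generators -/
def incl : Gen → P6.Gen
  | .c => .c
  | .d => .d
  | .e => .e
  | .f => .f
  | .h => .h

end P5

namespace P4

/-- The generators c, d, e, f. -/
inductive Gen
  | c
  | d
  | e
  | f
  deriving DecidableEq

/-- the generator c as a word -/ abbrev c : FreeGroup Gen := FreeGroup.of Gen.c
/-- the generator d as a word -/ abbrev d : FreeGroup Gen := FreeGroup.of Gen.d
/-- the generator e as a word -/ abbrev e : FreeGroup Gen := FreeGroup.of Gen.e
/-- the generator f as a word -/ abbrev f : FreeGroup Gen := FreeGroup.of Gen.f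

/-- The Coxeter graph restricted to these generators. -/
def edges : List (Gen × ℕ × Gen) :=
  [(.c, 3, .d), (.d, 3, .e), (.e, 3, .f)]

/-- The further relators that only involve these generators. -/
def extra : List (FreeGroup Gen) := []

/-- the inclusion of the generators -/
def incl : Gen → P5.Gen
  | .c => .c
  | .d => .d
  | .e => .e
  | .f => .f

end P4

end Cfsg.Agent.Lib.Helper28.Fi22Sub
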