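/-
The order of the presented Fischer group Fi₂₂: `|Fi₂₂| = 64561751654400`, and the action on the
3510 cosets of `2·U₆(2)` is faithful.
-/
import Cfsg.Agent.Lib.Helper28.OrdLemmas
import Cfsg.Agent.Lib.Helper28.Fi22x3510.Main
import Cfsg.Agent.Lib.Helper28.Fi22x14080.Main
import Cfsg.Agent.Lib.Helper28.Fi22Ord.Chain
import Cfsg.Agent.Lib.Helper28.Fi22Ord.C3159.Main
import Cfsg.Agent.Lib.Helper28.Fi22Ord.C28.Main
import Cfsg.Agent.Lib.Helper28.Fi22Ord.C27.Main
import Cfsg.Agent.Lib.Helper28.Fi22Ord.C16.Main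
import Cfsg.Agent.Lib.Helper28.Fi22Ord.C120.Main

set_option autoImplicit false

namespace Cfsg.Agent.Lib.Helper28.Fi22Ord

open Cfsg.Agent.Lib.Helper28.TC
open Cfsg.Agent.Lib.Helper28.Ord
open Cfsg.Agent.Lib.Helper28.Fi22Sub

/-! ### The upper bound -/

theorem card_P4 : Finite (PresentedGroup C120.rels) ∧ Nat.card (PresentedGroup C120.rels) ≤ 120 := by
  obtain ⟨e, _, _⟩ := C120.cosetEquiv
  have hidx : (subH C120.rels C120.subS).index = 120 := (Nat.card_congr e).trans (Nat.card_fin _)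
  have hbot : subH C120.rels C120.subS = ⊥ := by
    rw [subH]
    have : Subgroup.closure C120.subS = ⊥ := by
      rw [Subgroup.closure_eq_bot_iff]
      intro x hx
      exact absurd hx (Set.notMem_empty x)
    rw [this, Subgroup.map_bot]
  have h := card_le_of_index (subH C120.rels C120.subS) 120 1 (by decide) hidx
    (by rw [hbot]; infer_instance) (by rw [hbot]; simp)
  simpa using h

theorem card_P5 : Finite (PresentedGroup C16.rels) ∧
    Nat.card (PresentedGroup C16.rels) ≤ 16 * (120) := by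
  obtain ⟨hfin, hcard⟩ := card_P4
  obtain ⟨e, _, _⟩ := C16.cosetEquiv
  have hidx : (subH C16.rels C16.subS).index = 16 := (Nat.card_congr e).trans (Nat.card_fin _)
  obtain ⟨ψ, hψ⟩ := exists_hom_of_words P4.incl C16.rels C120.rels C16.hinv
    (coxE P4.edges ++ C120.extraE) (fun r hr => (C120.rels_iff r).1 hr)
    (coxE P5.edges ++ C16.extraE) (fun e he => (C16.rels_iff _).2 ⟨e, he, rfl⟩)
    (by decide +kernel)
  have hle : subH C16.rels C16.subS ≤ ψ.range := by
    apply subH_le_range P4.incl C16.rels C120.rels C16.subS ψ hψ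
    rintro s (rfl | rfl | rfl | rfl)
    · exact ⟨P4.c, rfl⟩
    · exact ⟨P4.d, rfl⟩
    · exact ⟨P4.e, rfl⟩
    · exact ⟨P4.f, rfl⟩
  obtain ⟨hf, hc⟩ := card_le_of_range ψ _ hle
  exact card_le_of_index _ 16 _ (by decide) hidx hf (le_trans hc hcard)

theorem card_P6 : Finite (PresentedGroup C27.rels) ∧
    Nat.card (PresentedGroup C27.rels) ≤ 27 * (16 * (120)) := by
  obtain ⟨hfin, hcard⟩ := card_P5
  obtain ⟨e, _, _⟩ := C27.cosetEquiv
  have hidx : (subH C27.rels C27.subS).index = 27 := (Nat.card_congr e).trans (Nat.card_fin _)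
  obtain ⟨ψ, hψ⟩ := exists_hom_of_words P5.incl C27.rels C16.rels C27.hinv
    (coxE P5.edges ++ C16.extraE) (fun r hr => (C16.rels_iff r).1 hr)
    (coxE P6.edges ++ C27.extraE) (fun e he => (C27.rels_iff _).2 ⟨e, he, rfl⟩)
    (by decide +kernel)
  have hle : subH C27.rels C27.subS ≤ ψ.range := by
    apply subH_le_range P5.incl C27.rels C16.rels C27.subS ψ hψ
    rintro s (rfl | rfl | rfl | rfl | rfl)
    · exact ⟨P5.c, rfl⟩
    · exact ⟨P5.d, rfl⟩
    · exact ⟨P5.e, rfl⟩
    · exact ⟨P5.f, rfl⟩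
    · exact ⟨P5.h, rfl⟩
  obtain ⟨hf, hc⟩ := card_le_of_range ψ _ hle
  exact card_le_of_index _ 27 _ (by decide) hidx hf (le_trans hc hcard)

theorem card_P7 : Finite (PresentedGroup C28.rels) ∧
    Nat.card (PresentedGroup C28.rels) ≤ 28 * (27 * (16 * (120))) := by
  obtain ⟨hfin, hcard⟩ := card_P6
  obtain ⟨e, _, _⟩ := C28.cosetEquiv
  have hidx : (subH C28.rels C28.subS).index = 28 := (Nat.card_congr e).trans (Nat.card_fin _)
  obtain ⟨ψ, hψ⟩ := exists_hom_of_words P6.incl C28.rels C27.rels C28.hinv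
    (coxE P6.edges ++ C27.extraE) (fun r hr => (C27.rels_iff r).1 hr)
    (coxE P7.edges ++ C28.extraE) (fun e he => (C28.rels_iff _).2 ⟨e, he, rfl⟩)
    (by decide +kernel)
  have hle : subH C28.rels C28.subS ≤ ψ.range := by
    apply subH_le_range P6.incl C28.rels C27.rels C28.subS ψ hψ
    rintro s (rfl | rfl | rfl | rfl | rfl | rfl)
    · exact ⟨P6.b, rfl⟩
    · exact ⟨P6.c, rfl⟩
    · exact ⟨P6.d, rfl⟩
    · exact ⟨P6.e, rfl⟩
    · exact ⟨P6.f, rfl⟩
    · exact ⟨P6.h, rfl⟩
  obtain ⟨hf, hc⟩ := card_le_of_range ψ _ hle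
  exact card_le_of_index _ 28 _ (by decide) hidx hf (le_trans hc hcard)

theorem card_P8 : Finite (PresentedGroup C3159.rels) ∧
    Nat.card (PresentedGroup C3159.rels) ≤ 3159 * (28 * (27 * (16 * (120)))) := by
  obtain ⟨hfin, hcard⟩ := card_P7
  obtain ⟨e, _, _⟩ := C3159.cosetEquiv
  have hidx : (subH C3159.rels C3159.subS).index = 3159 := (Nat.card_congr e).trans (Nat.card_fin _)
  obtain ⟨ψ, hψ⟩ := exists_hom_of_words P7.incl C3159.rels C28.rels C3159.hinv
    (coxE P7.edges ++ C28.extraE) (fun r hr => (C28.rels_iff r).1 hr)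
    (coxE P8.edges ++ C3159.extraE) (fun e he => (C3159.rels_iff _).2 ⟨e, he, rfl⟩)
    (by decide +kernel)
  have hle : subH C3159.rels C3159.subS ≤ ψ.range := by
    apply subH_le_range P7.incl C3159.rels C28.rels C3159.subS ψ hψ
    rintro s (rfl | rfl | rfl | rfl | rfl | rfl | rfl)
    · exact ⟨P7.b, rfl⟩
    · exact ⟨P7.c, rfl⟩
    · exact ⟨P7.d, rfl⟩
    · exact ⟨P7.e, rfl⟩
    · exact ⟨P7.f, rfl⟩
    · exact ⟨P7.g, rfl⟩
    · exact ⟨P7.h, rfl⟩
  obtain ⟨hf, hc⟩ := card_le_of_range ψ _ hle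
  exact card_le_of_index _ 3159 _ (by decide) hidx hf (le_trans hc hcard)

theorem card_Fi22_le : Finite (PresentedGroup Fi22x14080.rels) ∧
    Nat.card (PresentedGroup Fi22x14080.rels) ≤ 14080 * (3159 * (28 * (27 * (16 * (120))))) := by
  obtain ⟨hfin, hcard⟩ := card_P8
  obtain ⟨e, _, _⟩ := Fi22x14080.cosetEquiv
  have hidx : (subH Fi22x14080.rels Fi22x14080.subS).index = 14080 := (Nat.card_congr e).trans (Nat.card_fin _)
  obtain ⟨ψ, hψ⟩ := exists_hom_of_words P8.incl Fi22x14080.rels C3159.rels Fi22x14080.hinv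
    (coxE P8.edges ++ C3159.extraE) (fun r hr => (C3159.rels_iff r).1 hr)
    (coxE Cfsg.Spor.Fi22.edges ++ Fi22x14080.extraE) (fun e he => (Fi22x14080.rels_iff _).2 ⟨e, he, rfl⟩)
    (by decide +kernel)
  have hle : subH Fi22x14080.rels Fi22x14080.subS ≤ ψ.range := by
    apply subH_le_range P8.incl Fi22x14080.rels C3159.rels Fi22x14080.subS ψ hψ
    rintro s (rfl | rfl | rfl | rfl | rfl | rfl | rfl | rfl)
    · exact ⟨P8.b, rfl⟩
    · exact ⟨P8.c, rfl⟩
    · exact ⟨P8.d, rfl⟩
    · exact ⟨P8.e, rfl⟩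
    · exact ⟨P8.f, rfl⟩
    · exact ⟨P8.g, rfl⟩
    · exact ⟨P8.h, rfl⟩
    · exact ⟨P8.i, rfl⟩
  obtain ⟨hf, hc⟩ := card_le_of_range ψ _ hle
  exact card_le_of_index _ 14080 _ (by decide) hidx hf (le_trans hc hcard)

/-! ### The lower bound -/

/-- the permutation representation on 3510 points -/
noncomputable def phi : PresentedGroup Fi22x3510.rels →* Equiv.Perm (Fin Fi22x3510.nn) :=
  PresentedGroup.toGroup Fi22x3510.hrel

open Fi22x3510 in
theorem card_range_ge : 3510 * 2816 * 1680 * 243 * 16 ≤ Nat.card phi.range := by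
  have hfix2 := fixOK_spec tf _ _ ch2_fix
  have hfix3 := fixOK_spec tf _ _ ch3_fix
  have hfix4 := fixOK_spec tf _ _ ch4_fix
  have hfix5 := fixOK_spec tf _ _ ch5_fix
  have hb := chain_bound (A := Equiv.Perm (Fin nn)) (X := Fin nn)
    [(Subgroup.closure (wordPerms T chW1), ⟨chO1.root, ch1_rootlt⟩),
     (Subgroup.closure (wordPerms T chW2), ⟨chO2.root, ch2_rootlt⟩),
     (Subgroup.closure (wordPerms T chW3), ⟨chO3.root, ch3_rootlt⟩),
     (Subgroup.closure (wordPerms T chW4), ⟨chO4.root, ch4_rootlt⟩),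
     (Subgroup.closure (wordPerms T chW5), ⟨chO5.root, ch5_rootlt⟩)] phi.range
    (by
      intro p hp
      simp only [List.mem_cons, List.not_mem_nil, or_false] at hp
      rcases hp with rfl | rfl | rfl | rfl | rfl <;>
        exact closure_wordPerms_le_range T hrel _)
    (by
      simp only [List.pairwise_cons, List.mem_cons, List.not_mem_nil, or_false, forall_eq_or_imp,
        forall_eq, IsEmpty.forall_iff, implies_true, List.Pairwise.nil, and_true]
      refine ⟨⟨?_, ?_, ?_, ?_⟩, ⟨?_, ?_, ?_⟩, ⟨?_, ?_⟩, ?_⟩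
      · exact closure_wordPerms_le_stabilizer T _ _ (hfix2 0 (by simp))
      · exact closure_wordPerms_le_stabilizer T _ _ (hfix3 0 (by simp))
      · exact closure_wordPerms_le_stabilizer T _ _ (hfix4 0 (by simp))
      · exact closure_wordPerms_le_stabilizer T _ _ (hfix5 0 (by simp))
      · exact closure_wordPerms_le_stabilizer T _ _ (hfix3 1 (by simp))
      · exact closure_wordPerms_le_stabilizer T _ _ (hfix4 1 (by simp))
      · exact closure_wordPerms_le_stabilizer T _ _ (hfix5 1 (by simp))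
      · exact closure_wordPerms_le_stabilizer T _ _ (hfix4 192 (by simp))
      · exact closure_wordPerms_le_stabilizer T _ _ (hfix5 192 (by simp))
      · exact closure_wordPerms_le_stabilizer T _ _ (hfix5 54 (by simp)))
  have h1 := orbit_ncard_closure T chW1 chO1 ch1_rootlt ch1_root chP1_all 12 3510 ch_nn_le_pow ch1_count
  have h2 := orbit_ncard_closure T chW2 chO2 ch2_rootlt ch2_root chP2_all 12 2816 ch_nn_le_pow ch2_count
  have h3 := orbit_ncard_closure T chW3 chO3 ch3_rootlt ch3_root chP3_all 12 1680 ch_nn_le_pow ch3_count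
  have h4 := orbit_ncard_closure T chW4 chO4 ch4_rootlt ch4_root chP4_all 12 243 ch_nn_le_pow ch4_count
  have h5 := orbit_ncard_closure T chW5 chO5 ch5_rootlt ch5_root chP5_all 12 16 ch_nn_le_pow ch5_count
  simp only [List.map_cons, List.map_nil, List.prod_cons, List.prod_nil, h1, h2, h3, h4, h5] at hb
  exact le_trans (by norm_num) hb

/-! ### The order -/

theorem finite_Fi22 : Finite (PresentedGroup Fi22x3510.rels) := card_Fi22_le.1

theorem card_Fi22 : Nat.card (PresentedGroup Fi22x3510.rels) = 64561751654400 := by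
  have := finite_Fi22
  apply le_antisymm
  · exact le_trans card_Fi22_le.2 (by norm_num)
  · have h1 : Nat.card phi.range ≤ Nat.card (PresentedGroup Fi22x3510.rels) :=
      Nat.card_le_card_of_surjective _ phi.rangeRestrict_surjective
    exact le_trans (le_trans (by norm_num) card_range_ge) h1

theorem phi_injective : Function.Injective phi := by
  have := finite_Fi22
  rw [← MonoidHom.ker_eq_bot_iff]
  have h1 : Nat.card phi.ker * Nat.card phi.range = Nat.card (PresentedGroup Fi22x3510.rels) := by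
    rw [← Subgroup.index_ker, Subgroup.card_mul_index]
  have h2 : Nat.card phi.range ≤ Nat.card (PresentedGroup Fi22x3510.rels) :=
    Nat.card_le_card_of_surjective _ phi.rangeRestrict_surjective
  have h3 : Nat.card phi.range = 64561751654400 := by
    apply le_antisymm
    · rw [← card_Fi22]; exact h2
    · exact le_trans (by norm_num) card_range_ge
  rw [h3, card_Fi22] at h1
  have h4 : Nat.card phi.ker = 1 :=
    Nat.eq_of_mul_eq_mul_right (by norm_num : 0 < 64561751654400) (by rw [h1, one_mul])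
  exact Subgroup.card_eq_one.1 h4

end Cfsg.Agent.Lib.Helper28.Fi22Ord
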