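/-
The presented Fischer group Fi₂₂ is simple (Iwasawa's criterion on the 3510 cosets of
`2·U₆(2)`, the centralizer of the generator `a`).
-/
import Cfsg.Agent.Lib.Helper28.Fi22Ord.Order
import Cfsg.Agent.Lib.Helper28.IwasawaLemmas
import Cfsg.Agent.Lib.Helper28.Fi22x3510.Orbits

set_option autoImplicit false

namespace Cfsg.Agent.Lib.Helper28.Fi22Ord

open Cfsg.Agent.Lib.Helper28.TC
open Cfsg.Agent.Lib.Helper28.Ord
open Cfsg.Spor.Fi22 (Gen)
open MulAction

/-- the presented group -/
abbrev GF : Type := PresentedGroup Fi22x3510.rels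

/-- the subgroup `2·U₆(2)` -/
noncomputable abbrev KF : Subgroup GF := subH Fi22x3510.rels Fi22x3510.subS

instance : Finite GF := finite_Fi22

/-! ### Primitivity on 3510 points -/

theorem index_KF : KF.index = 3510 := by
  obtain ⟨e, _, _⟩ := Fi22x3510.cosetEquiv
  exact (Nat.card_congr e).trans (Nat.card_fin _)

theorem prim_KF : IsPreprimitive GF (GF ⧸ KF) := by
  obtain ⟨e, _, hequiv⟩ := Fi22x3510.cosetEquiv
  have hS : ∀ s ∈ Fi22x3510.subS, ∃ w ∈ Fi22x3510.subWords,
      FreeGroup.lift Fi22x3510.T.perm s = (w.map Fi22x3510.T.perm).prod := by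
    intro s hs
    obtain ⟨ex, hex, rfl⟩ := (Fi22x3510.subS_iff s).1 hs
    exact ⟨ex.evalW, Fi22x3510.subE_words ex hex,
      TC.WE.lift_evalF Fi22x3510.T.perm Fi22x3510.T.perm_mul_self ex⟩
  have hW : ∀ w ∈ Fi22x3510.subWords, ∃ s ∈ Fi22x3510.subS,
      FreeGroup.lift Fi22x3510.T.perm s = (w.map Fi22x3510.T.perm).prod := by
    intro w hw
    obtain ⟨ex, hex, rfl⟩ := Fi22x3510.subWords_cover w hw
    exact ⟨ex.evalF, (Fi22x3510.subS_iff _).2 ⟨ex, hex, rfl⟩,
      TC.WE.lift_evalF Fi22x3510.T.perm Fi22x3510.T.perm_mul_self ex⟩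
  let q1 : GF ⧸ KF := e.symm ⟨6, by decide⟩
  let q2 : GF ⧸ KF := e.symm ⟨1, by decide⟩
  have h1 : (orbit KF q1).ncard = 693 :=
    TC.orbit_ncard_of_cert Fi22x3510.T Fi22x3510.hrel e hequiv Fi22x3510.subWords hS hW
      (Fi22x3510.OC 2 6) (by decide) Fi22x3510.orb2_root Fi22x3510.orbP2_all 12 693
      Fi22x3510.nn_le_pow Fi22x3510.orb2_count
  have h2 : (orbit KF q2).ncard = 2816 :=
    TC.orbit_ncard_of_cert Fi22x3510.T Fi22x3510.hrel e hequiv Fi22x3510.subWords hS hW
      (Fi22x3510.OC 1 1) (by decide) Fi22x3510.orb1_root Fi22x3510.orbP1_all 12 2816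
      Fi22x3510.nn_le_pow Fi22x3510.orb1_count
  have hcard : Nat.card (GF ⧸ KF) = 3510 := index_KF
  refine isPreprimitive_of_suborbits ((1 : GF) : GF ⧸ KF) KF
    (le_of_eq (stabilizer_quotient KF).symm)
    [q1, q2] [693, 2816] ?_ (by decide) (by decide)
    (by rw [hcard]; rfl) ?_
  · show [(orbit KF q1).ncard, (orbit KF q2).ncard] = _
    rw [h1, h2]
  · rw [hcard]
    intro l hl
    exact (by decide : ∀ l ∈ [693, 2816].sublists,
      (1 + l.sum ∣ 3510 → l.sum = 0 ∨ 1 + l.sum = 3510)) l (List.mem_sublists.2 hl)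

theorem faithful_KF : FaithfulSMul GF (GF ⧸ KF) := by
  obtain ⟨e, _, hequiv⟩ := Fi22x3510.cosetEquiv
  constructor
  intro g₁ g₂ h
  apply phi_injective
  ext i
  have h1 := hequiv g₁ (e.symm i)
  have h2 := hequiv g₂ (e.symm i)
  rw [Equiv.apply_symm_apply] at h1 h2
  show ((PresentedGroup.toGroup Fi22x3510.hrel g₁) i).val =
    ((PresentedGroup.toGroup Fi22x3510.hrel g₂) i).val
  rw [← h1, ← h2, h (e.symm i)]

theorem card_KF : Nat.card KF = 18393661440 := by
  have h := Subgroup.card_mul_index KF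
  rw [index_KF, card_Fi22] at h
  exact Nat.eq_of_mul_eq_mul_right (by norm_num : 0 < 3510) (by rw [h])

/-! ### The central involution -/

/-- the images of the generators -/
noncomputable abbrev gv (x : Gen) : GF := pval Fi22x3510.rels x

theorem wval_eq_one_of_fix (w : List Gen) (h : ∀ i, i < Fi22x3510.nn → act Fi22x3510.tf w i = i) :
    wval gv w = 1 := by
  apply phi_injective
  rw [map_one]
  show PresentedGroup.toGroup Fi22x3510.hrel (wval (pval Fi22x3510.rels) w) = 1
  rw [toGroup_wval Fi22x3510.T Fi22x3510.hrel]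
  exact Fi22x3510.T.wordPerm_eq_one w h

theorem aRel_one (w : List Gen) (hw : w ∈ Fi22x3510.aRel) : wval gv w = 1 :=
  wval_eq_one_of_fix w fun i hi =>
    relRowOK_spec Fi22x3510.tf Fi22x3510.aRel i (Fi22x3510.aRelP_all i hi) w hw

theorem gv_inv (x : Gen) : (gv x)⁻¹ = gv x := inv_eq_of_mul_eq_one_left (Fi22x3510.hinv x)

theorem conj_a (w : List Gen) (hw : w ∈ Fi22x3510.subWords) :
    wval gv w * gv Gen.a * (wval gv w)⁻¹ = gv Gen.a := by
  have hmem : w ++ Gen.a :: (w.reverse ++ [Gen.a]) ∈ Fi22x3510.aRel := by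
    revert w
    decide
  have h1 := aRel_one _ hmem
  rw [wval_append, wval_cons, wval_append, wval_reverse gv Fi22x3510.hinv, wval_cons, wval_nil,
    mul_one] at h1
  have h2 : wval gv w * gv Gen.a * (wval gv w)⁻¹ * gv Gen.a = 1 := by rw [← h1]; group
  have h3 := mul_eq_one_iff_eq_inv.1 h2
  rw [h3, gv_inv]

/-! ### Relations -/

theorem rel_of_mem (e : WE Gen) (he : e ∈ coxE Cfsg.Spor.Fi22.edges ++ Fi22x3510.extraE) :
    wval gv e.evalW = 1 :=
  wval_pval_eq_one Fi22x3510.rels Fi22x3510.hinv e ((Fi22x3510.rels_iff _).2 ⟨e, he, rfl⟩)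

theorem relWord_one (w : List Gen) (hw : w ∈ Fi22x3510.relWords) : wval gv w = 1 := by
  obtain ⟨e, he, rfl⟩ := Fi22x3510.relWords_cover w hw
  exact rel_of_mem e he

theorem sq (x : Gen) : gv x * gv x = 1 := Fi22x3510.hinv x

theorem rel_cube (x y : Gen) (h : [x, y, x, y, x, y] ∈ Fi22x3510.relWords) :
    (gv x * gv y) ^ 3 = 1 := by
  have h1 := relWord_one _ h
  simpa [wval, pow_succ, mul_assoc] using h1

theorem rel_e7 : (gv Gen.a * gv Gen.b * gv Gen.c * gv Gen.d * gv Gen.e * gv Gen.f * gv Gen.h) ^ 9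
    = 1 := by
  have h : PresentedGroup.mk Fi22x3510.rels
      ((Cfsg.Spor.Fi22.a * Cfsg.Spor.Fi22.b * Cfsg.Spor.Fi22.c * Cfsg.Spor.Fi22.d * Cfsg.Spor.Fi22.e *
        Cfsg.Spor.Fi22.f * Cfsg.Spor.Fi22.h) ^ 9) = 1 :=
    PresentedGroup.one_of_mem (Or.inr (by simp [Cfsg.Spor.Fi22.extra]))
  rw [map_pow, map_mul, map_mul, map_mul, map_mul, map_mul, map_mul] at h
  exact h

/-! ### Quotients in which the generators die -/

theorem eq_one_of_sq_cube {Q : Type*} [Group Q] (x : Q) (h2 : x * x = 1) (h3 : x ^ 3 = 1) :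
    x = 1 := by
  have : x ^ 3 = x * x * x := by rw [pow_succ, pow_two]
  rw [this, h2, one_mul] at h3
  exact h3

/-- A homomorphism that kills `a` kills every generator. -/
theorem hom_trivial_of_a {Q : Type*} [Group Q] (π : GF →* Q) (ha : π (gv Gen.a) = 1) (x : Gen) :
    π (gv x) = 1 := by
  have hsq : ∀ y, π (gv y) * π (gv y) = 1 := fun y => by rw [← map_mul, sq, map_one]
  have step : ∀ x y : Gen, [x, y, x, y, x, y] ∈ Fi22x3510.relWords → π (gv x) = 1 →
      π (gv y) = 1 := by
    intro x y hxy hx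
    have h := congrArg π (rel_cube x y hxy)
    rw [map_pow, map_mul, hx, one_mul, map_one] at h
    exact eq_one_of_sq_cube _ (hsq _) h
  have hb := step Gen.a Gen.b (by decide) ha
  have hc := step Gen.b Gen.c (by decide) hb
  have hd := step Gen.c Gen.d (by decide) hc
  have he := step Gen.d Gen.e (by decide) hd
  have hh := step Gen.d Gen.h (by decide) hd
  have hf := step Gen.e Gen.f (by decide) he
  have hg := step Gen.f Gen.g (by decide) hf
  have hi := step Gen.h Gen.i (by decide) hh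
  cases x <;> assumption

theorem eq_top_of_gens (N : Subgroup GF) (h : ∀ x, gv x ∈ N) : N = ⊤ := by
  rw [eq_top_iff]
  intro g _
  exact PresentedGroup.generated_by Fi22x3510.rels N h g

theorem normalClosure_a : Subgroup.normalClosure {gv Gen.a} = ⊤ := by
  apply eq_top_of_gens
  intro x
  have h := hom_trivial_of_a (QuotientGroup.mk' (Subgroup.normalClosure {gv Gen.a}))
    ((QuotientGroup.eq_one_iff _).2 (Subgroup.subset_normalClosure (Set.mem_singleton _))) x
  exact (QuotientGroup.eq_one_iff _).1 h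

theorem comm_eq_of_cube {Q : Type*} [CommGroup Q] (x y : Q) (hx : x * x = 1) (hy : y * y = 1)
    (h : (x * y) ^ 3 = 1) : x = y := by
  have h1 : (x * y) ^ 3 = (x * x) * (y * y) * (x * y) := by
    rw [pow_succ, pow_two]
    simp only [mul_comm, mul_left_comm]
  rw [h1, hx, hy, one_mul, one_mul] at h
  calc x = x * (y * y) := by rw [hy, mul_one]
    _ = (x * y) * y := by rw [mul_assoc]
    _ = y := by rw [h, one_mul]

theorem perfect_GF : commutator GF = ⊤ := by
  apply eq_top_of_gens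
  intro x
  rw [← Abelianization.ker_of, MonoidHom.mem_ker]
  set π : GF →* Abelianization GF := Abelianization.of with hπ
  have hsq : ∀ y, π (gv y) * π (gv y) = 1 := fun y => by rw [← map_mul, sq, map_one]
  have step : ∀ x y : Gen, [x, y, x, y, x, y] ∈ Fi22x3510.relWords → π (gv x) = π (gv y) := by
    intro x y hxy
    have h := congrArg π (rel_cube x y hxy)
    rw [map_pow, map_mul, map_one] at h
    exact comm_eq_of_cube _ _ (hsq _) (hsq _) h
  have hb := step Gen.a Gen.b (by decide)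
  have hc := step Gen.b Gen.c (by decide)
  have hd := step Gen.c Gen.d (by decide)
  have he := step Gen.d Gen.e (by decide)
  have hh := step Gen.d Gen.h (by decide)
  have hf := step Gen.e Gen.f (by decide)
  have ha : π (gv Gen.a) = 1 := by
    have h := congrArg π rel_e7
    rw [map_pow, map_mul, map_mul, map_mul, map_mul, map_mul, map_mul, map_one,
      ← hh, ← hf, ← he, ← hd, ← hc, ← hb] at h
    set A := π (gv Gen.a) with hA
    have hA2 : A * A = 1 := hsq Gen.a
    have h7 : A * A * A * A * A * A * A = A := by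
      rw [hA2, one_mul, hA2, one_mul, hA2, one_mul]
    rw [h7] at h
    have h9 : A ^ 9 = A := by
      rw [show (9 : ℕ) = 2 * 4 + 1 from rfl, pow_succ, pow_mul, pow_two, hA2, one_pow, one_mul]
    rw [h9] at h
    exact h
  exact hom_trivial_of_a π ha x

/-! ### Simplicity -/

theorem KF_eq_closure : KF = Subgroup.closure (PresentedGroup.mk Fi22x3510.rels '' Fi22x3510.subS) := by
  show (Subgroup.closure Fi22x3510.subS).map (PresentedGroup.mk Fi22x3510.rels) = _
  rw [MonoidHom.map_closure]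

theorem a_normalized : ∀ s ∈ PresentedGroup.mk Fi22x3510.rels '' Fi22x3510.subS,
    s * gv Gen.a * s⁻¹ = gv Gen.a ∨ s * gv Gen.a * s⁻¹ = (gv Gen.a)⁻¹ := by
  rintro _ ⟨s, hs, rfl⟩
  left
  obtain ⟨ex, hex, rfl⟩ := (Fi22x3510.subS_iff s).1 hs
  have hw := Fi22x3510.subE_words ex hex
  have : PresentedGroup.mk Fi22x3510.rels ex.evalF = wval gv ex.evalW := by
    rw [← lift_pval, WE.lift_evalF (pval Fi22x3510.rels) Fi22x3510.hinv]
  rw [this]
  exact conj_a _ hw

theorem nontrivial_GF : Nontrivial GF := by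
  rw [← Finite.one_lt_card_iff_nontrivial, card_Fi22]
  norm_num

/-- The presented Fischer group Fi₂₂ is simple. -/
theorem isSimpleGroup_GF : IsSimpleGroup GF := by
  have := nontrivial_GF
  have := prim_KF
  refine isSimpleGroup_of_two_actions KF KF faithful_KF ?_ (gv Gen.a) _ KF_eq_closure a_normalized
    normalClosure_a perfect_GF
  rw [index_KF, card_KF]
  decide

end Cfsg.Agent.Lib.Helper28.Fi22Ord
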